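import Mathlib
import Cfsg.Agent.Lib.Helper29.LeoFaithful

/-!
# Project BH (S4503, Brauer 1942) : definitions

Vocabulary: the Leo library `Cfsg/Agent/Lib/Helper29/Leo*.lean` (`LeoSetup`, `leoM`, `leoOrb`, `leoOm`,
`leoCjI`, `leoTw`, `leoA`, `leoDeg`).  The only new definition is `kerG π`, the kernel of the retraction
`π : C → P` as a subgroup of `G` (the normal `p`-complement of `C = C_G(P)`).
-/

set_option autoImplicit false

namespace Cfsg.Agent.Lib.helper15.BH

universe u

variable {G : Type u} [Group G] {C P : Subgroup G}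

/-- the kernel of the retraction `π : C → P` as a subgroup of `G` (the normal `p`-complement of `C`) -/
def kerG (π : ↥C →* ↥P) : Subgroup G := π.ker.map C.subtype

/-- KER1 -/
theorem mem_kerG {π : ↥C →* ↥P} (g : G) : g ∈ kerG π ↔ ∃ c : ↥C, π c = 1 ∧ (c : G) = g := by
  unfold kerG
  rw [Subgroup.mem_map]
  constructor
  · rintro ⟨c, hc, rfl⟩
    exact ⟨c, MonoidHom.mem_ker.mp hc, rfl⟩
  · rintro ⟨c, hc, rfl⟩
    exact ⟨c, MonoidHom.mem_ker.mpr hc, rfl⟩

end Cfsg.Agent.Lib.helper15.BH
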