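import Mathlib
import Cfsg.Agent.Lib.Helper29.LeoFaithful
import Cfsg.Agent.Lib.helper15.BH.Defs
import Cfsg.Agent.Lib.helper2.PModular2
import Cfsg.Agent.Lib.helper7.BlockDefGrp
import Cfsg.Agent.Lib.helper7.BlockEval
import Cfsg.Agent.Lib.helper7.BD.RootMain
import Cfsg.Agent.Lib.Helper16.BD4ROOTEX
import Cfsg.Agent.Lib.Helper13.BD4VALXY
import Cfsg.Agent.Lib.Helper13.BD2ROOTU
import Cfsg.Agent.Lib.Helper25.BHBT2
import Cfsg.Agent.Lib.Helper25.BHBT3
import Cfsg.Agent.Lib.helper23.BHSING

/-!
# Project BH (S4503), piece BT4 : an irreducible character of degree `< (p - 1) / 2` which is not trivial on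
the Sylow subgroup `P` of order `p` is, on the `p`-singular elements of `C_G(P)`, the sum of an `N_G(P)`-orbit
of irreducible characters of `C_G(P)` with non-trivial central character on `P`.

This is the adapter between the theorem on blocks of defect one (project BD, stage B: `root_main`,
`root_value_Y`) and the Leo vocabulary.
-/

set_option autoImplicit false
set_option linter.unusedVariables false
set_option linter.unusedSectionVars false
set_option linter.style.haveILetI false
open scoped ComplexConjugate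
open Classical

namespace Cfsg.Agent.Lib.helper15.BH

open Cfsg.Agent.Lib.helper7 Cfsg.Agent.Lib.helper7.BD Cfsg.Agent.Lib.helper2 Cfsg.Agent.Lib.Helper25
  Cfsg.Agent.Lib.Helper29

universe u

section concrete

variable {G : Type u} [Group G] [Fintype G] {p : ℕ} [Fact p.Prime]

/-- the root data of a block of positive defect, for a GIVEN Sylow subgroup of order `p` -/
theorem bt4_root_exists_of_sylow {M : Ideal Cfsg.AlgInt} (hM : Cfsg.IsPModular p M) (P : Sylow p G)
    (hP : Nat.card ↥(P : Subgroup G) = p)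
    (B : Set (Cfsg.IrrCharacter G)) (hB : Cfsg.IsPBlock M B) (hd : 0 < Cfsg.blockDefect p B) :
    ∃ (b : Set (Cfsg.IrrCharacter (Subgroup.centralizer ((P : Subgroup G) : Set G))))
      (θ : Cfsg.IrrCharacter (Subgroup.centralizer ((P : Subgroup G) : Set G))) (T : Subgroup G),
      RootHyp p M P B b θ T := by
  have hp : p.Prime := Fact.out
  haveI : Fintype (Cfsg.IrrCharacter G) := Fintype.ofFinite _
  obtain ⟨D, hD⟩ := Cfsg.Agent.Lib.Helper24.si_exists_defect hM B hB
  have hDcard := Cfsg.Agent.S0908.result p M hM B hB D hD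
  have hfac : (Nat.card G).factorization p = 1 := by
    have h1 := P.card_eq_multiplicity
    rw [hP] at h1
    have h2 : p ^ 1 = p ^ (Nat.card G).factorization p := by rw [pow_one]; exact h1
    exact (Nat.pow_right_injective hp.two_le h2).symm
  have hsq : ¬ p ^ 2 ∣ Nat.card G := by
    intro hdvd
    have hne : Nat.card G ≠ 0 := Nat.card_pos.ne'
    have := (hp.pow_dvd_iff_le_factorization hne).mp hdvd
    omega
  have hdle : Cfsg.blockDefect p B ≤ (Nat.card G).factorization p := by
    unfold Cfsg.blockDefect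
    exact Nat.sub_le _ _
  have hd1 : Cfsg.blockDefect p B = 1 := by omega
  rw [hd1, pow_one] at hDcard
  obtain ⟨S, hS⟩ := bdkdn_sylow p D hDcard hsq
  obtain ⟨g, hg⟩ := MulAction.exists_smul_eq G S P
  have hPD : (P : Subgroup G) = D.map (MulAut.conj g).toMonoidHom := by
    rw [← hg, ← hS]
    rfl
  have hcardP : Nat.card P = p := hP
  have hBP : Cfsg.IsDefectGroup p M B (P : Subgroup G) := by
    rw [hPD]
    exact h7_isDefectGroup_conj p M B D hD g
  have hPC : (P : Subgroup G) ≤ Subgroup.centralizer ((P : Subgroup G) : Set G) :=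
    bdchars_le_centralizer (P : Subgroup G) hcardP
  have hPg : IsPGroup p (P : Subgroup G) := P.isPGroup'
  obtain ⟨b, hb, hbD, hind⟩ := Cfsg.Agent.Lib.Helper24.ef_exists hM (P : Subgroup G)
    (Subgroup.centralizer ((P : Subgroup G) : Set G)) hPg hPC le_rfl
    (Subgroup.centralizer_le_normalizer _) B hB hBP
  have hP' : IsPGroup p
      ((P : Subgroup G).subgroupOf (Subgroup.centralizer ((P : Subgroup G) : Set G))) :=
    hPg.comap_subtype
  have hG' : (P : Subgroup G).subgroupOf (Subgroup.centralizer ((P : Subgroup G) : Set G)) ⊔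
      Subgroup.centralizer
        (((P : Subgroup G).subgroupOf (Subgroup.centralizer ((P : Subgroup G) : Set G)) :
          Subgroup ↥(Subgroup.centralizer ((P : Subgroup G) : Set G))) :
            Set ↥(Subgroup.centralizer ((P : Subgroup G) : Set G))) = ⊤ := by
    have : Subgroup.centralizer
        (((P : Subgroup G).subgroupOf (Subgroup.centralizer ((P : Subgroup G) : Set G)) :
          Subgroup ↥(Subgroup.centralizer ((P : Subgroup G) : Set G))) :
            Set ↥(Subgroup.centralizer ((P : Subgroup G) : Set G))) = ⊤ := by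
      rw [eq_top_iff]
      intro c _
      rw [Subgroup.mem_centralizer_iff]
      intro y hy
      have hy' : (y : G) ∈ (P : Subgroup G) := hy
      have hc := c.2
      rw [Subgroup.mem_centralizer_iff] at hc
      apply Subtype.ext
      exact hc (y : G) hy'
    rw [this, sup_top_eq]
  obtain ⟨⟨θ, ⟨hθb, hθP⟩, _⟩, _, _⟩ := Cfsg.Agent.S0968.result p M hM
    ((P : Subgroup G).subgroupOf (Subgroup.centralizer ((P : Subgroup G) : Set G))) hP' hG' b
    hb hbD
  refine ⟨b, θ, bd4rootex_T (P : Subgroup G)
    (θ : ↥(Subgroup.centralizer ((P : Subgroup G) : Set G)) → ℂ), ?_⟩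
  exact
    { hM := hM
      card_P := hcardP
      hB := hB
      hBP := hBP
      hind := hind
      hθ := hθb
      hθP := fun x hx => hθP x hx
      hT := fun g => bd4rootex_mem_T _ _ g }

/-- the block of a character of degree prime to `p` has positive defect when `p` divides `|G|` -/
theorem bt4_defect_pos {M : Ideal Cfsg.AlgInt} (hM : Cfsg.IsPModular p M) (P : Sylow p G)
    (hP : Nat.card ↥(P : Subgroup G) = p) (χ : Cfsg.IrrCharacter G) (hdeg : leoDeg χ < p) :
    0 < Cfsg.blockDefect p (Cfsg.blockOf M (χ : G → ℂ)) := by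
  have hp : p.Prime := Fact.out
  haveI : Fintype (Cfsg.IrrCharacter G) := Fintype.ofFinite _
  have hfac : (Nat.card G).factorization p = 1 := by
    have h1 := P.card_eq_multiplicity
    rw [hP] at h1
    have h2 : p ^ 1 = p ^ (Nat.card G).factorization p := by rw [pow_one]; exact h1
    exact (Nat.pow_right_injective hp.two_le h2).symm
  have hχ : χ ∈ Cfsg.blockOf M (χ : G → ℂ) := h7_sameBlock_refl hM.2.1.isPrime (χ : G → ℂ)
  have hcd : Cfsg.charDegree (χ : G → ℂ) = leoDeg χ := by
    unfold Cfsg.charDegree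
    rw [leoDeg_spec]
    simp
  have h0 : (Cfsg.charDegree (χ : G → ℂ)).factorization p = 0 := by
    rw [hcd]
    apply Nat.factorization_eq_zero_of_not_dvd
    intro hdvd
    have := Nat.le_of_dvd (leoDeg_pos χ) hdvd
    omega
  have hinf : sInf ((fun ψ : Cfsg.IrrCharacter G => (Cfsg.charDegree (ψ : G → ℂ)).factorization p) ''
      Cfsg.blockOf M (χ : G → ℂ)) = 0 := by
    have hle := Nat.sInf_le (s := (fun ψ : Cfsg.IrrCharacter G =>
      (Cfsg.charDegree (ψ : G → ℂ)).factorization p) '' Cfsg.blockOf M (χ : G → ℂ))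
      (Set.mem_image_of_mem _ hχ)
    omega
  unfold Cfsg.blockDefect
  rw [hinf, hfac]
  omega

/-- BT : the theory of blocks of defect one (BD stage B: `root_exists_of_sylow`, `root_main`, `root_value_X`,
`root_value_Y`) for an irreducible character of small degree which is not trivial on `P` -/
theorem small_degree_orbit (P : Sylow p G) (hP : Nat.card ↥(P : Subgroup G) = p) (hstar : LeoStar P)
    (π : ↥(Subgroup.centralizer ((P : Subgroup G) : Set G)) →* ↥(P : Subgroup G))
    (hπ : ∀ x : ↥(P : Subgroup G), π (Subgroup.inclusion (leoc_P_le_C hstar) x) = x)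
    (χ : Cfsg.IrrCharacter G) (hdeg : 2 * leoDeg χ + 1 < p)
    (hnt : ∃ x ∈ (P : Subgroup G), (χ : G → ℂ) x ≠ (χ : G → ℂ) 1) :
    ∃ θ₁ : Cfsg.IrrCharacter ↥(Subgroup.centralizer ((P : Subgroup G) : Set G)),
      leoOm (leoc_setup hstar π hπ) θ₁ ≠ 1 ∧
      ∀ c : ↥(Subgroup.centralizer ((P : Subgroup G) : Set G)), π c ≠ 1 →
        (χ : G → ℂ) (c : G) = ∑ ϑ ∈ leoOrb (leoc_setup hstar π hπ) θ₁,
          (ϑ : ↥(Subgroup.centralizer ((P : Subgroup G) : Set G)) → ℂ) c := by
  have hp : p.Prime := Fact.out
  haveI : Fintype (Cfsg.IrrCharacter G) := Fintype.ofFinite _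
  obtain ⟨M, hM⟩ := exists_isPModular p hp
  set hL := leoc_setup hstar π hπ with hLdef
  have hdp := leoDeg_pos χ
  have hB : Cfsg.IsPBlock M (Cfsg.blockOf M (χ : G → ℂ)) := ⟨χ, rfl⟩
  have hχB : χ ∈ Cfsg.blockOf M (χ : G → ℂ) := h7_sameBlock_refl hM.2.1.isPrime (χ : G → ℂ)
  have hd := bt4_defect_pos hM P hP χ (by omega)
  obtain ⟨b, θ, T, h⟩ := bt4_root_exists_of_sylow hM P hP _ hB hd
  obtain ⟨t, r, X, y, ε, hr, hBXY, hdisj, hcardX, hyinj, hcardB, hεpm, hεy, hmX, hmY, hdegX, hdegY,
    hreg⟩ := root_main h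
  rw [hBXY] at hχB
  rcases hχB with hχX | ⟨j, hj⟩
  · exfalso
    obtain ⟨x, hx, hne⟩ := hnt
    have hχB' : χ ∈ Cfsg.blockOf M (χ : G → ℂ) := h7_sameBlock_refl hM.2.1.isPrime (χ : G → ℂ)
    exact hne (small_not_X h r hr χ hχB' (ε χ) (hmX χ hχX) (by omega) x hx)
  · have hχB' : χ ∈ Cfsg.blockOf M (χ : G → ℂ) := h7_sameBlock_refl hM.2.1.isPrime (χ : G → ℂ)
    have hmul : ∀ j',
      Cfsg.classInner (r j' : ↥(Subgroup.centralizer ((P : Subgroup G) : Set G)) → ℂ)
          (fun c : ↥(Subgroup.centralizer ((P : Subgroup G) : Set G)) => (χ : G → ℂ) (c : G)) -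
        Cfsg.classInner (θ : ↥(Subgroup.centralizer ((P : Subgroup G) : Set G)) → ℂ)
          (fun c : ↥(Subgroup.centralizer ((P : Subgroup G) : Set G)) => (χ : G → ℂ) (c : G)) =
        if j = j' then ((ε χ : ℤ) : ℂ) else 0 := by
      intro j'
      have := hmY j j'
      rw [hj] at this
      exact this
    have hε1 : ε χ = 1 := small_Y_sign h r hr χ hχB' (ε χ) (hεpm χ) j hmul hdeg hnt
    refine ⟨r j, ?_, ?_⟩
    · intro hom
      apply hr.ne j
      apply root_unique h (r j) (hr.mem j)
      intro x hx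
      have hxe : x = Subgroup.inclusion (leoc_P_le_C hstar) ⟨(x : G), hx⟩ := by
        apply Subtype.ext
        rfl
      have h1 := leoOm_apply_one hL (r j) ⟨(x : G), hx⟩
      rw [hom] at h1
      rw [hxe, h1]
      simp
    · intro c hc
      have hsing : p ∣ orderOf (c : G) := (pi_ne_one_iff P hstar π hπ c).mp hc
      have hsing' : p ∣ orderOf c := by
        rw [← Subgroup.orderOf_coe]
        exact hsing
      have hval := root_value_Y h r hr χ hχB' (ε χ) j hmul c hsing'
      rw [hε1, Int.cast_one, one_mul] at hval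
      have hom : leoOm hL (r j) ≠ 1 := by
        intro hom
        apply hr.ne j
        apply root_unique h (r j) (hr.mem j)
        intro x hx
        have hxe : x = Subgroup.inclusion (leoc_P_le_C hstar) ⟨(x : G), hx⟩ := by
          apply Subtype.ext
          rfl
        have h1 := leoOm_apply_one hL (r j) ⟨(x : G), hx⟩
        rw [hom] at h1
        rw [hxe, h1]
        simp
      have hsum : ∑ n : ↥(Subgroup.normalizer ((P : Subgroup G) : Set G)),
          (cjIrr (Subgroup.centralizer ((P : Subgroup G) : Set G)) (n : G) (r j) :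
            ↥(Subgroup.centralizer ((P : Subgroup G) : Set G)) → ℂ) c =
          ∑ n : ↥(Subgroup.normalizer ((P : Subgroup G) : Set G)),
            ((leoCjI hL n (r j) : Cfsg.IrrCharacter _) :
              ↥(Subgroup.centralizer ((P : Subgroup G) : Set G)) → ℂ) c := by
        apply Finset.sum_congr rfl
        intro n _
        have hn : (n : G) ∈ Subgroup.normalizer
            ((Subgroup.centralizer ((P : Subgroup G) : Set G) : Subgroup G) : Set G) := hL.hN n.2
        rw [leoCjI_coe, leoCj_apply _ _ hn]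
        apply cjIrr_conj _ hn
        rw [leoAut_coe]
        group
      rw [hsum, leo_orbit_sum hL (r j) hom
        (fun θ' => (θ' : ↥(Subgroup.centralizer ((P : Subgroup G) : Set G)) → ℂ) c)] at hval
      simp only [nsmul_eq_mul] at hval
      rw [← Finset.mul_sum] at hval
      have hC0 : (Nat.card ↥(Subgroup.centralizer ((P : Subgroup G) : Set G)) : ℂ) ≠ 0 := by
        exact_mod_cast Nat.card_pos.ne'
      exact mul_left_cancel₀ hC0 hval

end concrete

end Cfsg.Agent.Lib.helper15.BH
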