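import Mathlib
import Cfsg.Agent.Lib.Helper29.LeoFaithful
import Cfsg.Agent.Lib.helper15.BH.Defs
import Cfsg.Agent.S4709
import Cfsg.Agent.Lib.helper2.PModular2
import Cfsg.Agent.Lib.helper8.Burnside
import Cfsg.Agent.Lib.Helper11.BHKER2
import Cfsg.Agent.Lib.Helper11.BHEXT
import Cfsg.Agent.Lib.Helper11.BHCONJ
import Cfsg.Agent.Lib.Helper11.BHKNORM
import Cfsg.Agent.Lib.Helper11.BHKSUM
import Cfsg.Agent.Lib.Helper11.BHCOUNT
import Cfsg.Agent.Lib.Helper29.BHNOFIX
import Cfsg.Agent.Lib.Helper29.BHAVG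
import Cfsg.Agent.Lib.Helper29.BHXMINUS
import Cfsg.Agent.Lib.Helper29.BHXPLUS
import Cfsg.Agent.Lib.Helper29.BHYDEG
import Cfsg.Agent.Lib.Helper16.BHF1
import Cfsg.Agent.Lib.Helper25.BHE1
import Cfsg.Agent.Lib.Helper10.BHPB
import Cfsg.Agent.Lib.helper23.BHSTAR
import Cfsg.Agent.Lib.helper23.BHSING
import Cfsg.Agent.Lib.helper23.BHINDEX
import Cfsg.Agent.Lib.helper15.BH.BT4

/-!
# Project BH (S4503, Brauer 1942) : assembly
-/

set_option autoImplicit false
set_option linter.unusedVariables false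
set_option linter.unusedSectionVars false
set_option linter.style.haveILetI false
open scoped ComplexConjugate
open Classical

namespace Cfsg.Agent.Lib.helper15.BH

open Cfsg.Agent.Lib.helper7 Cfsg.Agent.Lib.helper2 Cfsg.Agent.Lib.Helper25 Cfsg.Agent.Lib.Helper29

universe u

section core

variable {G : Type u} [Group G] [Fintype G] {p : ℕ} [Fact p.Prime]

/-- arithmetic: `f ∣ p - 1`, `2 f + 1 < p`, `2 ≤ f` give `3 f + 1 ≤ p` -/
theorem three_f (p f : ℕ) (hdvd : f ∣ p - 1) (h : 2 * f + 1 < p) (hf : 0 < f) : 3 * f + 1 ≤ p := by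
  obtain ⟨k, hk⟩ := hdvd
  have hk3 : 3 ≤ k := by
    by_contra hcon
    push Not at hcon
    interval_cases k <;> omega
  have : 3 * f ≤ f * k := by nlinarith
  omega

/-- the case `|N : C| ≥ 2` is impossible -/
theorem core_big (P : Sylow p G) (hP : Nat.card ↥(P : Subgroup G) = p)
    (hnoK : ∀ K : Subgroup G, K.Normal → (P : Subgroup G) ≤ K → K = ⊤)
    (χ : Cfsg.IrrCharacter G) (hdeg : 2 * leoDeg χ + 1 < p)
    (hnt : ∃ x ∈ (P : Subgroup G), (χ : G → ℂ) x ≠ (χ : G → ℂ) 1)
    (hf : 1 < (Subgroup.centralizer ((P : Subgroup G) : Set G)).relIndex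
      (Subgroup.normalizer ((P : Subgroup G) : Set G))) : False := by
  have hpp := (Fact.out : p.Prime)
  have hstar := leoStar_of_card P hP
  obtain ⟨π, hπ⟩ := leoc_exists_pi hstar
  set h := leoc_setup hstar π hπ with hh
  set f := (Subgroup.centralizer ((P : Subgroup G) : Set G)).relIndex
      (Subgroup.normalizer ((P : Subgroup G) : Set G)) with hfdef
  haveI : Fintype (Cfsg.IrrCharacter G) := Fintype.ofFinite _
  haveI : Finite (↥(P : Subgroup G) →* ℂˣ) := Nat.finite_of_card_ne_zero (by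
    rw [afd_card_dual (leo_comm h)]
    exact Nat.card_pos.ne')
  haveI : Fintype (↥(P : Subgroup G) →* ℂˣ) := Fintype.ofFinite _
  -- the shape of `χ` on `C`
  obtain ⟨θ₁, hθ₁, hval⟩ := small_degree_orbit P hP hstar π hπ χ hdeg hnt
  have hmult := ext_orbit h χ (by rw [hP]; omega) θ₁ hθ₁ hval
  have hcardorb : (leoOrb h θ₁).card = f := orbit_card_eq_relIndex P hstar π hπ θ₁ hθ₁
  have hdegorb := leo_deg_orbit h χ θ₁ hmult
  have hd₁ : 0 < leoDeg θ₁ := leoDeg_pos θ₁
  have hfle : f ≤ leoDeg χ := by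
    rw [hdegorb, hcardorb]
    exact Nat.le_mul_of_pos_right _ hd₁
  have hdvd : f ∣ p - 1 :=
    Cfsg.Agent.Lib.helper8.h8_relIndex_centralizer_normalizer_dvd_prime p hpp (P : Subgroup G) hP
  have h3f : 3 * f + 1 ≤ p := three_f p f hdvd (by omega) (by omega)
  have hres := leo_res_orbit h χ θ₁ hmult
  -- the conjugate character
  obtain ⟨lam, hl, hav⟩ := leo_exists_twist h θ₁ (by rw [hcardorb, hP]; omega)
  have hnc := leo_twist_not_mem h θ₁ lam hav
  obtain ⟨χ', hres', hne, hreg0⟩ := exists_conj_char' h χ θ₁ hθ₁ hmult lam hl hnc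
  have hreg : ∀ g : G, ¬ p ∣ orderOf g → (χ' : G → ℂ) g = (χ : G → ℂ) g := by
    intro g hg
    apply hreg0 g
    intro k c hc
    apply leoc_pi_eq_one π c
    rw [hc]
    have : orderOf (k⁻¹ * g * k) = orderOf g := by
      have := h7_orderOf_conj k⁻¹ g
      rwa [inv_inv] at this
    rw [this]
    exact hg
  have hdis := leo_orbits_disjoint_om h θ₁ lam hav
  -- the two product characters
  set W : G → ℂ := fun g => (χ : G → ℂ) g * conj ((χ : G → ℂ) g) with hWdef
  set W' : G → ℂ := fun g => (χ : G → ℂ) g * conj ((χ' : G → ℂ) g) with hW'def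
  have hW : Cfsg.IsCharacter G W :=
    h7_isCharacter_mul (isCharacter_of_irr χ) (bg_isCharacter_conj (isCharacter_of_irr χ))
  have hW' : Cfsg.IsCharacter G W' :=
    h7_isCharacter_mul (isCharacter_of_irr χ) (bg_isCharacter_conj (isCharacter_of_irr χ'))
  have hnofix : ∀ η : Cfsg.IrrCharacter G, Cfsg.classInner W' (η : G → ℂ) ≠ 0 →
      leoA h (η : G → ℂ) = 0 := fun η hη =>
    conj_prod_no_fixed h χ χ' θ₁ _ hres hres' (fun ϑ hϑ ϑ' hϑ' => hdis ϑ ϑ' hϑ hϑ') η hη
  -- the principal block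
  obtain ⟨X, Y, a, ε, hXcard, hYne, htrivX, hXval, hε, hYsum, hYsing, hYrel⟩ :=
    pb_values P hP f rfl hf (by omega)
  have hsingC : ∀ c : ↥(Subgroup.centralizer ((P : Subgroup G) : Set G)), π c ≠ 1 →
      p ∣ orderOf (c : G) := fun c hc => (pi_ne_one_iff P hstar π hπ c).mp hc
  -- inner products with the members of `X`
  have hE1 : ∀ η ∈ X, Cfsg.classInner W (η : G → ℂ) - Cfsg.classInner W' (η : G → ℂ) = (a η : ℂ) := by
    intro η hη
    have := inner_diff_of_const_sing p χ χ' hne hreg (η : G → ℂ) (a η : ℂ) (hXval η hη).2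
    rw [this]
    simp
  have hXminus : ∀ η ∈ X, a η = -1 → Cfsg.classInner W' (η : G → ℂ) ≠ 0 := by
    intro η hη haη h0
    have h1 := hE1 η hη
    obtain ⟨m, hm⟩ := classInner_character_nat hW (isCharacter_of_irr η)
    rw [h0, hm, haη, sub_zero] at h1
    have : ((m : ℤ) : ℂ) = ((-1 : ℤ) : ℂ) := by push_cast; push_cast at h1; exact h1
    have h2 : (m : ℤ) = -1 := by exact_mod_cast this
    omega
  -- degrees of the members of `X`
  have hdegminus : ∀ η ∈ X, a η = -1 → leoDeg η + 1 = p ∧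
      ∑ y : ↥(kerG π), (η : G → ℂ) (y : G) = (leoDeg η : ℂ) * (Nat.card ↥(kerG π) : ℂ) := by
    intro η hη haη
    have hA := hnofix η (hXminus η hη haη)
    have := xminus h η (fun c hc => by rw [(hXval η hη).2 _ (hsingC c hc), haη]; simp) hA
    rw [hP] at this
    exact this
  have hdegplus : ∀ η ∈ X, a η = 1 → η ≠ trivIrr G → p + 1 ≤ leoDeg η := by
    intro η hη haη hne'
    have := xplus h hnoK η hne' (fun c hc => by rw [(hXval η hη).2 _ (hsingC c hc), haη]; simp)
    rw [hP] at this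
    exact this
  -- the bound `r (p - 1) ≤ f ^ 2`
  have hr : (X.filter (fun η => a η = -1)).card * (p - 1) ≤ f ^ 2 := by
    obtain ⟨m, hm, hle⟩ := sum_ge_of_constituents (kerG π) hW' (X.filter (fun η => a η = -1))
      (fun η hη => hXminus η (Finset.mem_filter.mp hη).1 (Finset.mem_filter.mp hη).2) (p - 1)
      (fun η hη => by
        obtain ⟨h1, h2⟩ := hdegminus η (Finset.mem_filter.mp hη).1 (Finset.mem_filter.mp hη).2
        rw [h2]
        congr 2
        omega)
    refine le_trans hle ?_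
    have hKreg : ∀ y : ↥(kerG π), ¬ p ∣ orderOf (y : G) := by
      intro y
      obtain ⟨c, hc1, hc2⟩ := (mem_kerG (y : G)).mp y.2
      rw [← hc2]
      intro hdiv
      exact ((pi_ne_one_iff P hstar π hπ c).mpr hdiv) hc1
    have hsumK : ∑ y : ↥(kerG π), W' (y : G) =
        ((∑ y : ↥(kerG π), Complex.normSq ((χ : G → ℂ) (y : G)) : ℝ) : ℂ) := by
      push_cast
      apply Finset.sum_congr rfl
      intro y _
      rw [hW'def]
      simp only
      rw [hreg _ (hKreg y), Complex.mul_conj]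
    have hnorm := ker_norm_le h χ θ₁ hres
    rw [hcardorb] at hnorm
    have hKpos : (0 : ℝ) < (Nat.card ↥(kerG π) : ℝ) := by exact_mod_cast Nat.card_pos
    have h1 : ((m : ℝ) : ℂ) * (Nat.card ↥(kerG π) : ℂ) =
        ((∑ y : ↥(kerG π), Complex.normSq ((χ : G → ℂ) (y : G)) : ℝ) : ℂ) := by
      rw [← hsumK, hm]
      push_cast
      rfl
    have h2 : (m : ℝ) * (Nat.card ↥(kerG π) : ℝ) =
        ∑ y : ↥(kerG π), Complex.normSq ((χ : G → ℂ) (y : G)) := by
      exact_mod_cast h1
    have h3 : (m : ℝ) * (Nat.card ↥(kerG π) : ℝ) ≤ (f : ℝ) ^ 2 * (Nat.card ↥(kerG π) : ℝ) := by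
      rw [h2]; exact hnorm
    have h4 : (m : ℝ) ≤ (f : ℝ) ^ 2 := le_of_mul_le_mul_right h3 hKpos
    exact_mod_cast h4
  -- the degree relation
  obtain ⟨η₀, hη₀⟩ := hYne
  have hD : ∑ η ∈ X, a η * (leoDeg η : ℤ) ≤ (f : ℤ) := by
    have hrel := hYrel η₀ hη₀
    have hrel' : (ε : ℂ) * (leoDeg η₀ : ℂ) = ((∑ η ∈ X, a η * (leoDeg η : ℤ) : ℤ) : ℂ) := by
      rw [← leoDeg_spec η₀, hrel]
      push_cast
      apply Finset.sum_congr rfl
      intro η _
      rw [leoDeg_spec]
    have hrelZ : ε * (leoDeg η₀ : ℤ) = ∑ η ∈ X, a η * (leoDeg η : ℤ) := by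
      exact_mod_cast hrel'
    rcases hε with hε1 | hε1
    · -- `ε = 1`
      have hsumY : ∑ η ∈ Y, (Cfsg.classInner W (η : G → ℂ) - Cfsg.classInner W' (η : G → ℂ)) = -1 := by
        have := inner_diff_of_const_sing p χ χ' hne hreg (fun g => ∑ η ∈ Y, (η : G → ℂ) g)
          (-(ε : ℂ)) hYsing
        have e1 : ∀ V : G → ℂ, Cfsg.classInner V (fun g => ∑ η ∈ Y, (η : G → ℂ) g) =
            ∑ η ∈ Y, Cfsg.classInner V (η : G → ℂ) := by
          intro V
          have := h7_classInner_sum_right Y V (fun η => (η : G → ℂ))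
          rw [← this]
          congr 1
          funext g
          simp
        rw [e1, e1, ← Finset.sum_sub_distrib] at this
        rw [this, hε1]
        simp
      have hex : ∃ η ∈ Y, Cfsg.classInner W' (η : G → ℂ) ≠ 0 := by
        by_contra hcon
        push Not at hcon
        have h1 : ∑ η ∈ Y, (Cfsg.classInner W (η : G → ℂ) - Cfsg.classInner W' (η : G → ℂ)) =
            ∑ η ∈ Y, Cfsg.classInner W (η : G → ℂ) :=
          Finset.sum_congr rfl (fun η hη => by rw [hcon η hη, sub_zero])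
        rw [h1] at hsumY
        choose mW hmW using fun η : Cfsg.IrrCharacter G =>
          classInner_character_nat hW (isCharacter_of_irr η)
        simp only [hmW] at hsumY
        have : ((∑ η ∈ Y, mW η : ℕ) : ℂ) = ((-1 : ℤ) : ℂ) := by push_cast; exact hsumY
        have h2 : ((∑ η ∈ Y, mW η : ℕ) : ℤ) = -1 := by exact_mod_cast this
        omega
      obtain ⟨η₁, hη₁, hne1⟩ := hex
      have hA := hnofix η₁ hne1
      have hdeg1 : (leoDeg η₁ : ℤ) = ε * (f : ℤ) :=
        ydeg h η₁ (ε * (f : ℤ)) (by rw [hYsum η₁ hη₁]; push_cast; rfl) hA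
      have hrel1 := hYrel η₁ hη₁
      have hrel1' : (ε : ℂ) * (leoDeg η₁ : ℂ) = ((∑ η ∈ X, a η * (leoDeg η : ℤ) : ℤ) : ℂ) := by
        rw [← leoDeg_spec η₁, hrel1]
        push_cast
        apply Finset.sum_congr rfl
        intro η _
        rw [leoDeg_spec]
      have hrel1Z : ε * (leoDeg η₁ : ℤ) = ∑ η ∈ X, a η * (leoDeg η : ℤ) := by
        exact_mod_cast hrel1'
      rw [← hrel1Z, hdeg1, hε1]
      simp
    · -- `ε = -1`
      rw [← hrelZ, hε1]
      have : (0 : ℤ) ≤ (leoDeg η₀ : ℤ) := by positivity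
      have hf0 : (0 : ℤ) ≤ (f : ℤ) := by positivity
      linarith
  -- conclusion
  exact count_contra p f hpp (by omega) h3f X (trivIrr G) htrivX hXcard a
    (fun η hη => (hXval η hη).1) (fun η => leoDeg η)
    (by
      have := leoDeg_spec (trivIrr G)
      rw [trivIrr_apply] at this
      exact_mod_cast this.symm)
    (by
      have h1 := (hXval (trivIrr G) htrivX).2
      -- an element of order `p` exists
      obtain ⟨x, hx⟩ := exists_prime_orderOf_dvd_card' (G := G) p (by
        have := Subgroup.card_subgroup_dvd_card (P : Subgroup G)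
        rwa [hP] at this)
      have h2 := h1 x (by rw [hx])
      rw [trivIrr_apply] at h2
      exact_mod_cast h2.symm)
    (fun η hη haη => (hdegminus η hη haη).1) hdegplus hD hr

/-- the core: when no proper normal subgroup contains `P`, `P` is normal -/
theorem core (P : Sylow p G) (hP : Nat.card ↥(P : Subgroup G) = p)
    (hnoK : ∀ K : Subgroup G, K.Normal → (P : Subgroup G) ≤ K → K = ⊤)
    (χ : G → ℂ) (hχ : Cfsg.IsCharacter G χ) (hfaith : ∀ g : G, χ g = χ 1 → g = 1) (d : ℕ)
    (hd : χ 1 = (d : ℂ)) (hdeg : 2 * d + 1 < p) : (P : Subgroup G).Normal := by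
  have hpp := (Fact.out : p.Prime)
  haveI : Fintype (Cfsg.IrrCharacter G) := Fintype.ofFinite _
  obtain ⟨mm, hmm, hexp⟩ := isCharacter_expansion hχ
  have hdegη : ∀ η : Cfsg.IrrCharacter G, mm η ≠ 0 → 2 * leoDeg η + 1 < p := by
    intro η hη
    have hdη := isCharacter_degree_ge hχ η (mm η) d (leoDeg η) (hmm η) hd (leoDeg_spec η)
    have hle : leoDeg η ≤ d := by
      have : leoDeg η ≤ mm η * leoDeg η := Nat.le_mul_of_pos_left _ (Nat.pos_of_ne_zero hη)
      omega
    omega
  set f := (Subgroup.centralizer ((P : Subgroup G) : Set G)).relIndex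
      (Subgroup.normalizer ((P : Subgroup G) : Set G)) with hfdef
  have hdvd : f ∣ p - 1 :=
    Cfsg.Agent.Lib.helper8.h8_relIndex_centralizer_normalizer_dvd_prime p hpp (P : Subgroup G) hP
  have hp2 : 2 ≤ p := hpp.two_le
  have hf0 : 0 < f := Nat.pos_of_dvd_of_pos hdvd (by omega)
  by_cases hf : 1 < f
  · exfalso
    -- a constituent which is not trivial on `P`
    have hex : ∃ η : Cfsg.IrrCharacter G, mm η ≠ 0 ∧
        ∃ x ∈ (P : Subgroup G), (η : G → ℂ) x ≠ (η : G → ℂ) 1 := by
      by_contra hcon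
      push Not at hcon
      have hall : ∀ x ∈ (P : Subgroup G), x = 1 := by
        intro x hx
        apply hfaith
        have h1 := congrFun hexp x
        have h2 := congrFun hexp 1
        rw [h1, h2]
        simp only [Finset.sum_apply, Pi.smul_apply, smul_eq_mul]
        apply Finset.sum_congr rfl
        intro η _
        by_cases hη : mm η = 0
        · rw [hη]
          simp
        · rw [hcon η hη x hx]
      have hbot : (P : Subgroup G) = ⊥ := by
        rw [eq_bot_iff]
        intro x hx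
        rw [Subgroup.mem_bot]
        exact hall x hx
      rw [hbot, Subgroup.card_bot] at hP
      omega
    obtain ⟨η, hη, hnt⟩ := hex
    exact core_big P hP hnoK η (hdegη η hη) hnt hf
  · have hf1 : f = 1 := by omega
    have hstar := leoStar_of_card P hP
    obtain ⟨π, hπ⟩ := leoc_exists_pi hstar
    set h := leoc_setup hstar π hπ with hh
    have hNC : Nat.card ↥(Subgroup.normalizer ((P : Subgroup G) : Set G)) =
        Nat.card ↥(Subgroup.centralizer ((P : Subgroup G) : Set G)) := by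
      have hle : Subgroup.normalizer ((P : Subgroup G) : Set G) ≤
          Subgroup.centralizer ((P : Subgroup G) : Set G) := Subgroup.relIndex_eq_one.mp hf1
      rw [le_antisymm hle (Subgroup.centralizer_le_normalizer _)]
    have hcomm : ∀ x ∈ (P : Subgroup G), ∀ g : G, x * g * x⁻¹ * g⁻¹ = 1 := by
      intro x hx g
      apply hfaith
      have h1 := congrFun hexp (x * g * x⁻¹ * g⁻¹)
      have h2 := congrFun hexp 1
      rw [h1, h2]
      simp only [Finset.sum_apply, Pi.smul_apply, smul_eq_mul]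
      apply Finset.sum_congr rfl
      intro η _
      by_cases hη : mm η = 0
      · rw [hη]
        simp
      · congr 1
        by_cases hnt : ∃ y ∈ (P : Subgroup G), (η : G → ℂ) y ≠ (η : G → ℂ) 1
        · obtain ⟨θ₁, hθ₁, hval⟩ := small_degree_orbit P hP hstar π hπ η (hdegη η hη) hnt
          have hmult := ext_orbit h η (by rw [hP]; have := hdegη η hη; omega) θ₁ hθ₁ hval
          exact central_of_index_one h hNC η θ₁ hθ₁ hmult x hx g
        · push Not at hnt
          rw [← mem_irrKer]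
          have hxk : x ∈ irrKer η := (mem_irrKer η x).mpr (hnt x hx)
          have hn : (irrKer η).Normal := inferInstance
          have h3 : g * x⁻¹ * g⁻¹ ∈ irrKer η := hn.conj_mem _ (Subgroup.inv_mem _ hxk) g
          have h4 : x * g * x⁻¹ * g⁻¹ = x * (g * x⁻¹ * g⁻¹) := by group
          rw [h4]
          exact Subgroup.mul_mem _ hxk h3
    constructor
    intro x hx g
    have h1 := hcomm x hx g⁻¹
    have h2 : g * x * g⁻¹ = x := by
      have : g * x * g⁻¹ = g * (x * g⁻¹ * x⁻¹ * g⁻¹⁻¹) * g⁻¹ * x := by group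
      rw [this, h1]
      group
    rw [h2]
    exact hx

end core

/-- induction on the order: a faithful character of degree `d` with `2 d + 1 < p` forces a Sylow subgroup of
order `p` to be normal -/
theorem bh_faithful_normal : ∀ (m : ℕ) (G : Type u) [Group G] [Finite G], Nat.card G = m →
    ∀ (p : ℕ) [Fact p.Prime] (P : Sylow p G), Nat.card ↥(P : Subgroup G) = p →
    ∀ (χ : G → ℂ), Cfsg.IsCharacter G χ → (∀ g : G, χ g = χ 1 → g = 1) → ∀ d : ℕ,
    χ 1 = (d : ℂ) → 2 * d + 1 < p → (P : Subgroup G).Normal := by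
  intro m
  induction m using Nat.strong_induction_on with
  | _ m ih =>
  intro G _ _ hm p _ P hP χ hχ hfaith d hd hdeg
  by_cases hK : ∃ K : Subgroup G, K.Normal ∧ K ≠ ⊤ ∧ (P : Subgroup G) ≤ K
  · obtain ⟨K, hKn, hKtop, hPK⟩ := hK
    have hcardK : Nat.card ↥K < m := by
      rw [← hm]
      have hle := Subgroup.card_le_card_group K
      rcases Nat.lt_or_ge (Nat.card ↥K) (Nat.card G) with h1 | h1
      · exact h1
      · exact absurd ((Subgroup.card_eq_iff_eq_top K).mp (le_antisymm hle h1)) hKtop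
    have hcardP : Nat.card ↥((P.subtype hPK : Sylow p ↥K) : Subgroup ↥K) =
        Nat.card ↥(P : Subgroup G) :=
      Nat.card_congr (Subgroup.subgroupOfEquivOfLe hPK).toEquiv
    have hnorm := ih (Nat.card ↥K) hcardK ↥K rfl p (P.subtype hPK) (by rw [hcardP]; exact hP)
      (fun k : ↥K => χ (k : G)) (isCharacter_restrict hχ K)
      (fun k hk => Subtype.ext (hfaith (k : G) hk)) d hd hdeg
    haveI := hKn
    haveI : ((P.subtype hPK : Sylow p ↥K) : Subgroup ↥K).Characteristic :=
      Sylow.characteristic_of_normal (P.subtype hPK) hnorm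
    have hmap : (((P.subtype hPK : Sylow p ↥K) : Subgroup ↥K).map K.subtype).Normal :=
      inferInstance
    have heq : ((P.subtype hPK : Sylow p ↥K) : Subgroup ↥K).map K.subtype = (P : Subgroup G) :=
      Subgroup.map_subgroupOf_eq_of_le hPK
    rw [heq] at hmap
    exact hmap
  · push Not at hK
    have hnoK : ∀ K : Subgroup G, K.Normal → (P : Subgroup G) ≤ K → K = ⊤ :=
      fun K hKn hle => by_contra fun hne => hK K hKn hne hle
    haveI : Fintype G := Fintype.ofFinite G
    exact core P hP hnoK χ hχ hfaith d hd hdeg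

/-- S4503 -/
theorem s4503_main {G : Type u} [Group G] [Finite G] (p : ℕ) (hp : p.Prime)
    (hdiv : p ∣ Nat.card G) (hsq : ¬ p ^ 2 ∣ Nat.card G)
    (hnn : ∀ H : Subgroup G, H.Normal → Nat.card H ≠ p) (χ : G → ℂ)
    (hχ : Cfsg.IsCharacter G χ) (hfaith : ∀ g : G, χ g = χ 1 → g = 1) :
    p ≤ 2 * Cfsg.charDegree χ + 1 := by
  by_contra hcon
  push Not at hcon
  haveI : Fact p.Prime := ⟨hp⟩
  obtain ⟨d, hd⟩ := isCharacter_one_eq_nat hχ
  have hdeg : Cfsg.charDegree χ = d := by
    unfold Cfsg.charDegree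
    rw [hd]
    simp
  rw [hdeg] at hcon
  obtain ⟨P⟩ : Nonempty (Sylow p G) := inferInstance
  have hfac : (Nat.card G).factorization p = 1 := by
    have hG : Nat.card G ≠ 0 := Nat.card_pos.ne'
    have h1 : 1 ≤ (Nat.card G).factorization p :=
      (hp.dvd_iff_one_le_factorization hG).mp hdiv
    have h2 : ¬ 2 ≤ (Nat.card G).factorization p := by
      intro h
      exact hsq ((hp.pow_dvd_iff_le_factorization hG).mpr h)
    omega
  have hP : Nat.card ↥(P : Subgroup G) = p := by
    rw [P.card_eq_multiplicity, hfac, pow_one]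
  have hn := bh_faithful_normal (Nat.card G) G rfl p P hP χ hχ hfaith d hd hcon
  exact hnn (P : Subgroup G) hn hP

end Cfsg.Agent.Lib.helper15.BH
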